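import Mathlib.NumberTheory.RamificationInertia.Galois
import Mathlib.RingTheory.Invariant.Galois
import Mathlib.RingTheory.DedekindDomain.Ideal.Lemmas
import Mathlib.RingTheory.IntegralClosure.IntegralRestrict
import Mathlib.GroupTheory.Sylow
import Mathlib.GroupTheory.Perm.Cycle.Type
import Mathlib.RingTheory.RootsOfUnity.Basic
import Mathlib.RingTheory.DiscreteValuationRing.Basic

/-! Inertia, wild inertia and the tame character of a maximal ideal in a Galois extension of Dedekind domains. -/

namespace Groth.Agent.WildTame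

open scoped Pointwise

section

variable {B G : Type*} [CommRing B] [Group G] [MulSemiringAction G B] {m : Ideal B} [hm : m.IsMaximal]

theorem cancel {c : B} (hc : c ∉ m) : ∀ {i : ℕ} {x : B}, c * x ∈ m ^ i → x ∈ m ^ i := by
  intro i
  induction i with
  | zero => intros; simp
  | succ i ih =>
    intro x hx
    have hxi : x ∈ m ^ i := ih (Ideal.pow_le_pow_right (Nat.le_succ i) hx)
    obtain ⟨d, y, hy, hd⟩ := hm.exists_inv hc
    have : x = d * (c * x) + y * x := by rw [← mul_assoc, ← add_mul, hd, one_mul]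
    rw [this]
    refine add_mem (Ideal.mul_mem_left _ d hx) ?_
    rw [pow_succ']
    exact Ideal.mul_mem_mul hy hxi

omit hm in
theorem smul_mem_pow {g : G} (hg : g • m = m) {i : ℕ} {x : B} (hx : x ∈ m ^ i) : g • x ∈ m ^ i := by
  have h := Ideal.mem_map_of_mem (MulSemiringAction.toRingHom G B g) hx
  rw [Ideal.map_pow, ← Ideal.pointwise_smul_def, hg] at h
  exact h

omit hm in
theorem gain {g : G} (hg : ∀ x : B, g • x - x ∈ m ^ 2) :
    ∀ {i : ℕ} {x : B}, x ∈ m ^ i → g • x - x ∈ m ^ (i + 1) := by
  intro i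
  induction i with
  | zero => intro x _; exact Ideal.pow_le_pow_right (by omega) (hg x)
  | succ i ih =>
    intro x hx
    rw [pow_succ] at hx
    induction hx using Submodule.mul_induction_on' with
    | mem_mul_mem a ha b hb =>
      have hga : g • a ∈ m ^ i := by
        have h := add_mem (Ideal.pow_le_pow_right (Nat.le_succ i) (ih ha)) ha
        rwa [sub_add_cancel] at h
      have e : g • (a * b) - a * b = g • a * (g • b - b) + (g • a - a) * b := by
        rw [smul_mul']; ring
      rw [e]
      refine add_mem ?_ ?_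
      · rw [show i + 1 + 1 = i + 2 by ring, pow_add]
        exact Ideal.mul_mem_mul hga (hg b)
      · rw [pow_succ (n := i + 1)]
        exact Ideal.mul_mem_mul (ih ha) hb
    | add a _ b _ h1 h2 =>
      rw [smul_add, add_sub_add_comm]
      exact add_mem h1 h2

theorem trivial_of_pow_eq_one [IsDomain B] [IsNoetherianRing B] [FaithfulSMul G B] {g : G}
    (hg : ∀ x : B, g • x - x ∈ m ^ 2) {n : ℕ} (hn : (n : B) ∉ m) (hpow : g ^ n = 1) : g = 1 := by
  refine eq_of_smul_eq_smul (α := B) fun b => ?_
  rw [one_smul, ← sub_eq_zero, ← Ideal.mem_bot, ← Ideal.iInf_pow_eq_bot_of_isDomain m hm.ne_top,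
    Ideal.mem_iInf]
  intro i
  induction i with
  | zero => simp
  | succ i hi =>
    set d := g • b - b with hd
    have key : ∀ j : ℕ, g ^ j • b - b - (j : B) * d ∈ m ^ (i + 1) := by
      intro j
      induction j with
      | zero => simp
      | succ j hj =>
        have h1 : g • (g ^ j • b - b - (j : B) * d) ∈ m ^ (i + 1) := by
          have h := add_mem (Ideal.pow_le_pow_right (Nat.le_succ _) (gain hg hj)) hj
          rwa [sub_add_cancel] at h
        have h2 : (j : B) * (g • d - d) ∈ m ^ (i + 1) := Ideal.mul_mem_left _ _ (gain hg hi)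
        have hj' : g • (j : B) = (j : B) := map_natCast (MulSemiringAction.toRingHom G B g) j
        have e : g ^ (j + 1) • b - b - ((j + 1 : ℕ) : B) * d =
            g • (g ^ j • b - b - (j : B) * d) + (j : B) * (g • d - d) := by
          rw [smul_sub, smul_sub, smul_mul', hj', ← mul_smul g, ← pow_succ', Nat.cast_succ, hd]
          ring
        rw [e]
        exact add_mem h1 h2
    have h := key n
    rw [hpow, one_smul, sub_self, zero_sub, neg_mem_iff] at h
    exact cancel hn h

omit hm in
theorem pow_two_le : m ^ 2 ≤ m := Ideal.pow_le_self two_ne_zero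

theorem sq_gain {g : G} (hI : ∀ x : B, g • x - x ∈ m) :
    ∀ x ∈ m ^ 2, g • x - x ∈ m ^ 2 := by
  intro x hx
  rw [pow_two] at hx
  induction hx using Submodule.mul_induction_on' with
  | mem_mul_mem a ha b hb =>
    have hga : g • a ∈ m := by
      have h := add_mem (hI a) ha
      rwa [sub_add_cancel] at h
    have e : g • (a * b) - a * b = g • a * (g • b - b) + (g • a - a) * b := by
      rw [smul_mul']; ring
    rw [e, pow_two]
    exact add_mem (Ideal.mul_mem_mul hga (hI b)) (Ideal.mul_mem_mul (hI a) hb)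
  | add a _ b _ h1 h2 => rw [smul_add, add_sub_add_comm]; exact add_mem h1 h2

theorem mem_sq_of_uniformizer {π : B} (hπm : π ∈ m) (hπ : m ≤ Ideal.span {π} ⊔ m ^ 2)
    {g : G} (hI : ∀ x : B, g • x - x ∈ m) (hgπ : g • π - π ∈ m ^ 2) :
    ∀ x ∈ m, g • x - x ∈ m ^ 2 := by
  intro x hx
  obtain ⟨y, hy, z, hz, rfl⟩ := Submodule.mem_sup.1 (hπ hx)
  obtain ⟨w, rfl⟩ := Ideal.mem_span_singleton'.1 hy
  rw [smul_add, add_sub_add_comm]
  refine add_mem ?_ (sq_gain hI z hz)
  have e : g • (w * π) - w * π = g • w * (g • π - π) + (g • w - w) * π := by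
    rw [smul_mul']; ring
  rw [e]
  refine add_mem (Ideal.mul_mem_left _ _ hgπ) ?_
  rw [pow_two]
  exact Ideal.mul_mem_mul (hI w) hπm

open Polynomial in
include hm in
theorem mem_sq_of_separable {A : Type*} [CommRing A] [Algebra A B]
    [SMulCommClass G A B] [Algebra.IsSeparable (A ⧸ m.comap (algebraMap A B)) (B ⧸ m)]
    [(m.comap (algebraMap A B)).IsMaximal] {π : B} (hπm : π ∈ m) (hπ : m ≤ Ideal.span {π} ⊔ m ^ 2)
    {g : G} (hI : ∀ x : B, g • x - x ∈ m) (hgπ : g • π - π ∈ m ^ 2) (b : B) :
    g • b - b ∈ m ^ 2 := by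
  letI := Ideal.Quotient.field (m.comap (algebraMap A B))
  set p := m.comap (algebraMap A B)
  have hsep := Algebra.IsSeparable.isSeparable (A ⧸ p) (Ideal.Quotient.mk m b)
  obtain ⟨P, hP⟩ := Polynomial.map_surjective (Ideal.Quotient.mk p) Ideal.Quotient.mk_surjective
    (minpoly (A ⧸ p) (Ideal.Quotient.mk m b))
  have ev : ∀ Q : A[X], Ideal.Quotient.mk m (aeval b Q) =
      aeval (Ideal.Quotient.mk m b) (Q.map (Ideal.Quotient.mk p)) := by
    intro Q
    rw [← Ideal.Quotient.mkₐ_eq_mk A m, ← Polynomial.aeval_algHom_apply,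
      ← Polynomial.aeval_map_algebraMap (A ⧸ p)]
    rfl
  have hPb : aeval b P ∈ m := by
    rw [← Ideal.Quotient.eq_zero_iff_mem, ev, hP, minpoly.aeval]
  have hd : aeval b (derivative P) ∉ m := by
    rw [← Ideal.Quotient.eq_zero_iff_mem, ev, ← Polynomial.derivative_map, hP]
    exact Polynomial.Separable.aeval_derivative_ne_zero hsep (minpoly.aeval _ _)
  have h1 := mem_sq_of_uniformizer hπm hπ hI hgπ _ hPb
  have h2 : g • aeval b P = aeval (g • b) P :=
    (Polynomial.aeval_algHom_apply (MulSemiringAction.toAlgHom A B g) b P).symm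
  set Q := P.map (algebraMap A B) with hQ
  have hev : ∀ x : B, Q.eval x = aeval x P := fun x => eval_map_algebraMap ..
  obtain ⟨c, hc⟩ := Q.binomExpansion b (g • b - b)
  rw [add_sub_cancel, hev, hev, hQ, derivative_map, eval_map_algebraMap] at hc
  rw [h2, hc] at h1
  refine cancel hd ?_
  have hsq : c * (g • b - b) ^ 2 ∈ m ^ 2 := Ideal.mul_mem_left _ _ (Ideal.pow_mem_pow (hI b) 2)
  have h3 := sub_mem h1 hsq
  convert h3 using 1
  ring

end

section

variable {A B G : Type*} [CommRing A] [IsDomain A] [IsDedekindDomain A] [CommRing B] [IsDomain B]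
  [IsDedekindDomain B] [Algebra A B] [Module.Finite A B] [Module.IsTorsionFree A B]
  [Group G] [Finite G] [MulSemiringAction G B] [IsGaloisGroup G A B]

theorem card_inertia (p : Ideal A) [p.IsMaximal] (hp : p ≠ ⊥) (m : Ideal B) [m.IsMaximal]
    [m.LiesOver p] [Algebra.IsSeparable (A ⧸ p) (B ⧸ m)] :
    Nat.card (m.inertia G) = p.ramificationIdx' m := by
  classical
  letI := Ideal.Quotient.field p
  letI := Ideal.Quotient.field m
  haveI : Normal (A ⧸ p) (B ⧸ m) := Ideal.Quotient.normal (A := A) G p m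
  haveI : IsGalois (A ⧸ p) (B ⧸ m) := { }
  have h1 : Nat.card (MulAction.stabilizer G m) = Nat.card (m.inertia G) * m.inertiaDeg A := by
    have h := Nat.card_congr (Ideal.Quotient.stabilizerQuotientInertiaEquiv G p m).toEquiv
    rw [IsGalois.card_aut_eq_finrank, ← Ideal.inertiaDeg_eq_of_isMaximal p m] at h
    rw [← h, ← Subgroup.index_eq_card,
      ← ((Ideal.inertia G m).subgroupOf (MulAction.stabilizer G m)).card_mul_index,
      Nat.card_congr (Subgroup.subgroupOfEquivOfLe (Ideal.inertia_le_stabilizer (M := G) m)).toEquiv,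
      AddSubgroup.subgroupOf_inertia]
  have h2 : (p.primesOver B).ncard * Nat.card (MulAction.stabilizer G m) = Nat.card G := by
    rw [← Algebra.IsInvariant.orbit_eq_primesOver A B G p m]
    simpa using Nat.card_congr (MulAction.orbitProdStabilizerEquivGroup G m)
  have h3 := Ideal.ncard_primesOver_mul_ramificationIdxIn_mul_inertiaDegIn p B G
  rw [← h2, h1, Ideal.inertiaDegIn_eq_inertiaDeg p m G,
    Ideal.ramificationIdxIn_eq_ramificationIdx p m G] at h3
  have hr : (p.primesOver B).ncard ≠ 0 := by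
    intro h
    rw [h, Nat.zero_mul] at h2
    exact absurd h2.symm Nat.card_pos.ne'
  have hf : m.inertiaDeg A ≠ 0 := (m.inertiaDeg_pos A).ne'
  rw [mul_right_inj' hr, mul_left_inj' hf] at h3
  rw [Ideal.ramificationIdx'_eq_ramificationIdx p m hp, h3]

end

section

variable {B G : Type*} [CommRing B] [IsDomain B] [IsDedekindDomain B] [Group G] [MulSemiringAction G B]
  {m : Ideal B} [hm : m.IsMaximal] {π : B} (hπm : π ∈ m) (hπ : m ≤ Ideal.span {π} ⊔ m ^ 2) (hπ2 : π ∉ m ^ 2)

include hπm hπ in
theorem exists_unit_mul (g : m.inertia G) : ∃ u : B, (g : G) • π - u * π ∈ m ^ 2 := by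
  have hg : (g : G) • π ∈ m := by
    have := add_mem (g.2 π) hπm
    rwa [sub_add_cancel] at this
  obtain ⟨y, hy, z, hz, hyz⟩ := Submodule.mem_sup.1 (hπ hg)
  obtain ⟨u, rfl⟩ := Ideal.mem_span_singleton'.1 hy
  exact ⟨u, by rw [← hyz, add_sub_cancel_left]; exact hz⟩

include hπ2 in
theorem unit_unique {u v : B} (h : u * π - v * π ∈ m ^ 2) :
    Ideal.Quotient.mk m u = Ideal.Quotient.mk m v := by
  rw [Ideal.Quotient.eq]
  by_contra hc
  rw [← sub_mul] at h
  exact hπ2 (cancel hc h)

/-- The tame character. -/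
noncomputable def theta : m.inertia G →* B ⧸ m where
  toFun g := Ideal.Quotient.mk m (exists_unit_mul hπm hπ g).choose
  map_one' := by
    rw [← map_one (Ideal.Quotient.mk m)]
    refine unit_unique hπ2 ?_
    have h := ((exists_unit_mul hπm hπ (1 : m.inertia G)).choose_spec)
    generalize (exists_unit_mul hπm hπ (1 : m.inertia G)).choose = u at h ⊢
    rw [OneMemClass.coe_one, one_smul] at h
    rw [one_mul]
    have := neg_mem h
    rwa [neg_sub] at this
  map_mul' g g' := by
    rw [← map_mul]
    set u := (exists_unit_mul hπm hπ g).choose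
    set u' := (exists_unit_mul hπm hπ g').choose
    have h1 := ((exists_unit_mul hπm hπ g).choose_spec)
    have h2 := ((exists_unit_mul hπm hπ g').choose_spec)
    have h12 := ((exists_unit_mul hπm hπ (g * g')).choose_spec)
    refine unit_unique hπ2 ?_
    have hg : (g : G) • m = m := Ideal.inertia_le_stabilizer m g.2
    have h2' := smul_mem_pow hg h2
    rw [smul_sub, smul_mul', ← mul_smul, ← Subgroup.coe_mul] at h2'
    have h4 : ((g : G) • u' - u') * π ∈ m ^ 2 := by
      rw [pow_two]; exact Ideal.mul_mem_mul (g.2 u') hπm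
    have h5 := Ideal.mul_mem_left (m ^ 2) ((g : G) • u') h1
    have h6 : ((g : G) • u' - u') * (u * π) ∈ m ^ 2 := by
      rw [mul_left_comm]; exact Ideal.mul_mem_left _ _ h4
    have := add_mem (add_mem (sub_mem h2' h12) h5) h6
    convert this using 1
    ring

theorem theta_eq_one_iff (g : m.inertia G) :
    theta hπm hπ hπ2 g = 1 ↔ (g : G) • π - π ∈ m ^ 2 := by
  have h1 := ((exists_unit_mul hπm hπ g).choose_spec)
  change Ideal.Quotient.mk m (exists_unit_mul hπm hπ g).choose = 1 ↔ _
  generalize (exists_unit_mul hπm hπ g).choose = u at h1 ⊢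
  constructor
  · intro h
    rw [← map_one (Ideal.Quotient.mk m), Ideal.Quotient.eq] at h
    have h' : (u - 1) * π ∈ m ^ 2 := by
      rw [pow_two]; exact Ideal.mul_mem_mul h hπm
    have := add_mem h1 h'
    convert this using 1
    ring
  · intro h
    rw [← map_one (Ideal.Quotient.mk m)]
    refine unit_unique hπ2 ?_
    rw [one_mul]
    have := sub_mem h h1
    convert this using 1
    ring

end

end Groth.Agent.WildTame
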